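import Cfsg.Agent.MX.C
import Cfsg.Agent.GW.Cv4
import Cfsg.Agent.GW.LC2c
import Cfsg.Agent.H2.TwoC
import Cfsg.Agent.H3.ZCor

/-! A simple group with a maximal Sylow 2-subgroup of order 128 is `PSL(2, 127)`. -/

set_option autoImplicit false
set_option linter.unusedVariables false
set_option linter.unusedSectionVars false

namespace MX

open Cfsg Subgroup FT GW H4
open H5 (IsSylowOf mem_of_eq)
open TW (idx2 idx2' half mem_sup_zp card_sup_zp)

variable {G : Type*} [Group G] [Finite G]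

theorem chain (n : ℕ) : ∀ P : Subgroup G, IsPGroup 2 P → 2 ^ n ≤ Nat.card P →
    ∃ c : Fin (n + 1) → Subgroup G, StrictAnti c ∧ c 0 = P := by
  induction n with
  | zero => exact fun P _ _ => ⟨![P], fun a b h => absurd h (by omega), rfl⟩
  | succ n ih =>
    intro P hP h
    obtain ⟨H, e⟩ := Sylow.exists_subgroup_card_pow_prime_of_le_card (n := n) Nat.prime_two hP (by omega)
    rw [← card_map_of_injective P.subtype_injective] at e
    obtain ⟨c, c1, c2⟩ := ih _ (hP.to_le (map_subtype_le H)) e.ge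
    exact ⟨Matrix.vecCons P c, c1.vecCons (c2 ▸ lt_of_le_of_ne (map_subtype_le H) fun e' => by
      rw [e'] at e; have := Nat.one_le_two_pow (n := n); omega), rfl⟩

theorem es [IsSimpleGroup G] [Group.IsPerfect G] (S : Sylow 2 G) (hS : Nat.card S = 128)
    (mx : ∀ M, (S : Subgroup G) < M → M = ⊤) : ∃ E z, Es (S : Subgroup G) E z := by
  have b : (S : Subgroup G) ≠ ⊥ := fun e => by rw [e, card_bot] at hS; omega
  obtain ⟨z, zS, z1, -, z2, z3, -⟩ :=
    H7.exists_step_up S.isPGroup' le_rfl le_normalizer (bot_lt_iff_ne_bot.2 b)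
  have oz := orderOf_eq_two' (sq z ▸ mem_bot.1 z3) z1
  have n := H9.Cen_ne_top z1
  have cz : Cen1 z = S := ((show _ ≤ Cen1 z from fun g hg => c1.2
    (commutatorElement_eq_one_iff_mul_comm.1 (z2 g hg)).symm).eq_or_lt.resolve_right fun e => n (mx _ e)).symm
  have nor : ∀ X ≤ (S : Subgroup G), X ≠ ⊥ → S ≤ Nor X → Nor X ≤ S := fun X h1 h2 h3 =>
    (h3.eq_or_lt.resolve_right fun e => n (top_le_iff.1 (((normalizer_eq_top_iff.1
      (mx _ e)).eq_bot_or_eq_top.resolve_left h2).ge.trans (h1.trans cz.ge)))).ge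
  obtain ⟨g, g1, g2⟩ : ∃ g, Commute z (g * z * g⁻¹) ∧ g * z * g⁻¹ ≠ z := by
    by_contra! c
    refine n (eq_top_iff.2 fun g _ => c1.2 (H3.commute_of_isolated
      ((inferInstance : (pPrimeCore 2 G).Normal).eq_bot_or_eq_top.resolve_right fun e => ?_) oz c g))
    simpa [oz] using coprime_orderOf_of_mem (coprime_card_pPrimeCore 2 G) (e.ge (mem_top z))
  obtain ⟨_, l, ⟨k, k1, rfl⟩, m⟩ := Finite.exists_le_maximal
    (p := fun E => ∃ k ∉ (S : Subgroup G), (S : Subgroup G) ⊓ conjS k S = E) ⟨g, fun c => g2 (c1'.1 (cz.ge c)), rfl⟩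
  obtain ⟨ρ, r1, r2, r3, -⟩ := H7.exists_mem_normalizer_of_lt (S.isPGroup'.map _)
    (lt_of_le_of_ne (inf_le_right (a := (S : Subgroup G)) (b := conjS k S)) fun e => k1
      (nor _ le_rfl b le_normalizer (mem_normalizer_iff_conjS.2
        (eq_of_le_of_card_ge (e.ge.trans inf_le_left) (card_conjS k _).ge))))
  exact ⟨_, z, H5.isSylowOf_top S, hS, nor, oz, cz, inf_le_left,
    l ⟨zS, by rw [← cz, conj_c1]; exact c1.2 g1⟩,
    fun g hg e => m ⟨g, hg, rfl⟩ (le_inf inf_le_left e), ρ, r3, fun c => r2 ⟨c, r1⟩⟩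

theorem not_sd [IsSimpleGroup G] [Group.IsPerfect G] {S : Sylow 2 G}
    (mx : ∀ M, (S : Subgroup G) < M → M = ⊤) (h : IsQuasiDihedral S) : False := by
  obtain ⟨m, a, b, h⟩ := exists_SDS S h
  have cz := (show (S : Subgroup G) ≤ Cen1 _ from fun _ => h.cen).eq_or_lt.resolve_right fun e =>
    H9.Cen_ne_top (ine h.oz) (mx _ e)
  have w2 : a * b * (a * b) = a ^ 2 ^ (m + 2) := by simpa using h.sq 1
  have ev : ∀ j : ℤ, a ^ (2 * j) ∈ zpowers (a * a) := fun j => ⟨j, by simp only; rw [← sq]; group⟩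
  have e2 : a ^ 2 ^ (m + 2) ∈ zpowers (a * a) := ⟨(2 ^ (m + 1) : ℕ), by
    simp only [zpow_natCast, ← sq, ← pow_mul, ← pow_succ']⟩
  have nb : b ∈ Nor (zpowers (a * a)) := mnor fun k ⟨i, e⟩ => by
    rw [← e, show (fun x : ℤ => (a * a) ^ x) i = a ^ (2 * i) by simp only; rw [← sq]; group, h.cj, h.z_even,
      mul_one, ← mul_neg]
    exact ev _
  have mM : ∀ {y}, y ∈ zpowers (a * a) ⊔ zpowers b ↔ _ := mem_sup_zp h.hb2 nb
  have od4 : ∀ i : ℤ, a ^ i = 1 → (4 : ℤ) ∣ i := fun i e => (Dvd.intro (2 ^ (m + 1))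
    (by rw [h.ha]; push_cast; ring)).trans (orderOf_dvd_iff_zpow_eq_one.2 e)
  have aM : a ∉ zpowers (a * a) ⊔ zpowers b := fun c => (mM.1 c).elim (fun ⟨i, e⟩ => by
      have := od4 (2 * i - 1) (by simp only at e; rw [zpow_sub_one, zpow_mul, zpow_two, e, mul_inv_cancel])
      omega)
    fun c => h.hb ((mul_mem_cancel_left (mem_zpowers a)).1
      (zpowers_le.2 (mul_mem (mem_zpowers a) (mem_zpowers a)) c))
  have od : ∀ y ∈ (S : Subgroup G), y ∉ zpowers (a * a) ⊔ zpowers b →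
      ∃ j : ℤ, y = a ^ (2 * j + 1) ∨ y = a ^ (2 * j + 1) * b := fun y hy c => by
    obtain ⟨i, e⟩ := h.hmem y hy
    obtain ⟨j, rfl | rfl⟩ := Int.even_or_odd' i
    · rcases e with rfl | rfl
      exacts [absurd (mem_sup_left (ev j)) c, absurd (mul_mem_sup (ev j) (mem_zpowers b)) c]
    · exact ⟨j, e⟩
  have MS : zpowers (a * a) ⊔ zpowers b ≤ S :=
    sup_le (zpowers_le.2 (mul_mem h.haS h.haS)) (zpowers_le.2 h.hbS)
  have i2 : (zpowers (a * a) ⊔ zpowers b).relIndex S = 2 := index_eq_two_iff.2 ⟨⟨a, h.haS⟩, fun y => by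
    by_cases hy : (y : G) ∈ zpowers (a * a) ⊔ zpowers b
    · exact Or.inr ⟨hy, fun e => aM ((mul_mem_cancel_left hy).1 e)⟩
    refine Or.inl ⟨show (y : G) * a ∈ zpowers (a * a) ⊔ zpowers b from ?_, hy⟩
    obtain ⟨j, e | e⟩ := od _ y.2 hy <;> rw [e]
    · exact mem_sup_left (mem_of_eq (ev (j + 1)) (by group))
    · exact mem_of_eq (mul_mem_sup (mul_mem (ev j) e2) (mem_zpowers b)) (by
        rw [show a ^ 2 ^ (m + 2) = a * (b * a * b⁻¹) by rw [h.hab, mul_inv_cancel_left]]; group)⟩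
  have o4 : orderOf (a * b) = 2 ^ (1 + 1) := orderOf_eq_prime_pow (by rw [pow_one, sq, w2]; exact ine h.oz)
    (by rw [show 2 ^ (1 + 1) = 2 * 2 from rfl, pow_mul, sq (a * b), w2, sq, ii h.oz])
  have big : ∀ y ∈ (S : Subgroup G), y ∉ zpowers (a * a) ⊔ zpowers b → 2 < orderOf y := fun y hy c => by
    by_contra n
    have y2 : y * y = 1 := by
      have := orderOf_pos y
      rw [← sq, ← orderOf_dvd_iff_pow_eq_one]
      generalize orderOf y = k at *
      obtain rfl | rfl : k = 1 ∨ k = 2 := by omega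
      all_goals norm_num
    obtain ⟨j, rfl | rfl⟩ := od y hy c
    · have := od4 _ ((zpow_add a _ _).trans y2); omega
    · rw [h.sq, zpow_add_one, h.z_even, one_mul] at y2; exact ine h.oz y2
  have oS : Odd (S : Subgroup G).index := Nat.odd_iff.2 (Nat.two_dvd_ne_zero.1 S.not_dvd_index)
  obtain ⟨g, hg⟩ := H2.transfer_large_order (fun H => GW.index_ne_two H) _ oS _ i2 (1 + 1)
    (by simpa using big) _ o4
  have gS : g ∈ (S : Subgroup G) := cz.ge (c1'.2 (inv_uniq (by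
    rw [show g * a ^ 2 ^ (m + 2) * g⁻¹ = g * (a * b) * g⁻¹ * (g * (a * b) * g⁻¹) by rw [conj_mul, w2]]
    obtain ⟨i, e | e⟩ := h.hmem _ (MS hg) <;> rw [e]
    · exact mul_mem (zpow_mem_zpowers a i) (zpow_mem_zpowers a i)
    · rw [h.sq]; exact zpow_mem (npow_mem_zpowers a _) _) (npow_mem_zpowers a _) (iconj h.oz g) h.oz))
  have := normal_of_index_eq_two i2
  exact aM ((mul_mem_cancel_right (mem_sup_right (mem_zpowers b))).1
    (cmem2 (le_normalizer_of_normal_subgroupOf MS gS) hg))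

theorem main [IsSimpleGroup G] (hG : ¬ IsMulCommutative G) (S : Sylow 2 G) (hS : Nat.card S = 128)
    (mx : ∀ M, (S : Subgroup G) < M → M = ⊤) : ∃ (F : Type) (_ : Field F) (_ : Fintype F),
      Fintype.card F = 127 ∧ Nonempty (G ≃* Matrix.ProjectiveSpecialLinearGroup (Fin 2) F) := by
  have := H9.isPerfect_of_simple (G := G) fun c => hG ⟨⟨c⟩⟩
  obtain ⟨E, z, h⟩ := es S hS mx
  obtain ⟨u, uS, ou, cu⟩ := h.four
  obtain ⟨n, ⟨e⟩⟩ := ((H2.dihedral_of_centralizer_four S.isPGroup' ⟨u, uS⟩ (by rwa [← orderOf_coe]) (by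
    rw [← cu, ← card_map_of_injective (S : Subgroup G).subtype_injective]
    congr 2
    ext g
    exact ⟨by rintro ⟨g, hg, rfl⟩; exact ⟨g.2, c1.2 (congrArg Subtype.val (c1.1 hg))⟩,
      fun hg => ⟨⟨g, hg.1⟩, c1.2 (Subtype.ext (c1.1 hg.2)), rfl⟩⟩)).resolve_right
    fun c => c.elim (not_sd mx) (by omega) :)
  have hD := D2_of_dihedral S e
  rcases gwThm G hG hD with ⟨F, _, _, h1, h2, ⟨f⟩⟩ | ⟨⟨f⟩⟩
  · obtain ⟨q, τ, σ, l⟩ := lfacts hD ⊤ (by
      exact eq_bot_iff.2 fun g hg => by_contra fun c => H9.Cen_ne_top c (top_le_iff.1 (cen_iff_le.1 hg))) ⟨F, _, _, h1, h2, ⟨topEquiv.trans f⟩⟩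
    have k := l.card_in (fun _ _ => trivial) z h.oz S
    rw [show Kt ⊤ z = ⊥ from eq_bot_iff.2 fun y hy => let ⟨_, a, b⟩ := l.mem_K z h.oz y hy
      H9.eq_one_of_odd_of_mem S.isPGroup' (h.cz.le (c1.2 a)) b, card_bot, hS] at k
    have c := (Cen1 z).index_mul_card
    rw [l.idx z trivial h.oz, h.cz, hS, Nat.card_congr f.toEquiv] at c
    have c2 := card_psl h1
    rw [← c] at c2
    refine ⟨F, _, inferInstance, ?_, ⟨f⟩⟩
    obtain ⟨p, _, k, hp, e⟩ := FiniteField.card' F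
    generalize Fintype.card F = m at *
    have mono : ∀ r : ℕ, 1 ≤ r → m * (m ^ 2 - 1) = r * (r ^ 2 - 1) → m = r := fun r h1 e => by
      zify [Nat.one_le_pow 2 r h1, Nat.one_le_pow 2 m (by omega)] at e h1 h2 ⊢
      have : (m - r : ℤ) * (m ^ 2 + m * r + r ^ 2 - 1) = 0 := by linear_combination e
      exact sub_eq_zero.1 ((mul_eq_zero.1 this).resolve_right (by nlinarith))
    rcases l.num with ⟨rfl, rfl⟩ | ⟨q1, q2⟩
    · obtain rfl : τ = 64 := by omega
      have := mono 129 (by norm_num) (c2.symm.trans (by norm_num))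
      have h3 : ∀ r : ℕ, r.Prime → r ∣ 129 → r = p := fun r hr d =>
        (Nat.prime_dvd_prime_iff_eq hr hp).1 (hr.dvd_of_dvd_pow (e ▸ this ▸ d))
      exact absurd ((h3 3 (by norm_num) (by norm_num)).trans (h3 43 (by norm_num) (by norm_num)).symm)
        (by norm_num)
    · obtain rfl : q = 127 := by omega
      obtain rfl : σ = 63 := by omega
      exact mono 127 (by norm_num) (c2.symm.trans (by norm_num))
  · have := hS ▸ card_subgroup_dvd_card (S : Subgroup G)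
    rw [Nat.card_congr f.toEquiv, Nat.card_eq_fintype_card, card_alternatingGroup] at this
    exact absurd this (by norm_num [Nat.factorial])

end MX
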