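import Cfsg.Agent.MX.A
import Cfsg.Agent.H9.Loc1
import Cfsg.Agent.H7.Conn

/-! The transvection case: `N_S(E) = D₈ × D`. -/

set_option autoImplicit false
set_option linter.unusedVariables false
set_option linter.unusedSectionVars false

namespace MX

open Cfsg Subgroup FT GW H4
open H5 (IsSylowOf mem_of_eq)
open TW (idx2 idx2' half mem_sup_zp card_sup_zp NN mem_NN NN_of)

variable {G : Type*} [Group G] [Finite G] {S E D : Subgroup G} {z g k x u u0 a b c s : G}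

structure Cs (S E D : Subgroup G) (z x u u0 : G) : Prop extends Ex S E z x where
  uE : u ∈ E
  uu : u * u = 1
  cu : ∀ g ∈ S, g ∈ Cen1 u → g ∈ E
  ab : ∀ a ∈ E, ∀ b ∈ E, a ∈ Cen1 b
  mv0 : ∀ g ∈ S ⊓ Nor E, g ∉ E → g * u * g⁻¹ = u * u0
  tE : x * u * x⁻¹ ∉ E
  u0E : u0 ∈ E ⊓ conjS x E
  u0D : u0 ∉ D
  DE : D ≤ E ⊓ conjS x E
  nD : ∀ X ≤ D, S ≤ Nor X → X = ⊥
  k1 : Nat.card ↥(S ⊓ Nor E) = 2 * Nat.card E
  k2 : Nat.card E = 2 * Nat.card ↥(E ⊓ conjS x E)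
  k3 : Nat.card ↥(E ⊓ conjS x E) = 2 * Nat.card D
  k4 : Nat.card D ≤ 4

theorem Ex.caseI (h : Ex S E z x) : ∃ D u u0, Cs S E D z x u u0 := by
  obtain ⟨w, hw, t1⟩ : ∃ w ∈ W E, x * w * x⁻¹ ∉ E := by
    by_contra! c; exact h.caseII c
  obtain ⟨ρ, r1, r2⟩ := h.out
  have o := om0 (z := z).conj r1
  have n : ρ * z * ρ⁻¹ ≠ z := mt h.mz.2 r2
  have sq2 : ∀ {a : G} (g : G), a * a = 1 → g * a * g⁻¹ * (g * a * g⁻¹) = 1 := fun g e => by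
    rw [conj_mul, e]; group
  have tT : ∀ {v}, v ∈ E → x * v * x⁻¹ ∈ S ⊓ Nor E := fun hv => h.leT (conj_mem_conjS hv)
  have c0 : ∀ {v}, v ∈ W E → conjS x E ≤ Cen1 (x * v * x⁻¹) := fun hv => by
    rintro _ ⟨e, he, rfl⟩; exact cc1 (cW hv he) x
  have wE := (mW.1 hw).1.1
  have th := fun {d'} => h.three (d' := d') (tT wE) t1 (by rw [sq2 x (mW.1 hw).2]; exact one_mem _)
    (fun a ha b hb a1 b1 => c0 hw (h.mE.2 (by
      rw [← conj_mul]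
      exact h.ui (tT (mW.1 ha).1.1) (tT (mW.1 hb).1.1) (fun e => a1 (c0 hw (h.mE.2 e)))
        (fun e => b1 (c0 hw (h.mE.2 e))) (by rw [sq2 x (mW.1 ha).2]; exact one_mem _)
        (by rw [sq2 x (mW.1 hb).2]; exact one_mem _)))) o n
  have hd : x * (ρ * z * ρ⁻¹) * x⁻¹ ∉ E := fun e => t1 (h.ti0 o n (tT wE).1 (c1s.1 (c0 hw (h.mE.2 e))))
  have o2 := o.conj (tT wE).2
  have cd : ∀ g ∈ Cen1 z, ρ * g * ρ⁻¹ ∈ Cen1 (ρ * z * ρ⁻¹) := fun g hg => cc1 hg ρ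
  have n2 : x * w * x⁻¹ * (ρ * z * ρ⁻¹) * (x * w * x⁻¹)⁻¹ ≠ ρ * z * ρ⁻¹ := fun e =>
    t1 (h.ti0 o n (tT wE).1 (c1'.2 e))
  generalize x * w * x⁻¹ * (ρ * z * ρ⁻¹) * (x * w * x⁻¹)⁻¹ = d2 at *
  generalize ρ * z * ρ⁻¹ = d at *
  have mv : ∀ g ∈ S ⊓ Nor E, g ∉ E → g * d * g⁻¹ = d2 := fun g hg g1 =>
    ((th (o.conj hg.2)).resolve_left fun e => n (mul_left_cancel (mul_right_cancel
      (e.trans (h.mz.1 hg.1).symm)))).resolve_left fun e => g1 (h.ti0 o n hg.1 (c1'.2 e))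
  have i1 : ∀ g ∈ S ⊓ Nor E, ∀ k ∈ S ⊓ Nor E, g ∉ E → k ∉ E → g * k ∈ E := fun g hg k hk g1 k1 =>
    h.ti0 o n (mul_mem hg.1 hk.1) (c1'.2 (by
      rw [show g * k * d * (g * k)⁻¹ = g * (k * d * k⁻¹) * g⁻¹ by group, mv k hk k1,
        ← mv _ (inv_mem hg) fun c => g1 (inv_mem_iff.1 c)]
      group))
  have k1 : Nat.card ↥(S ⊓ Nor E) = 2 * Nat.card E := le_antisymm (idx2' h.lt.le i1) h.cT.1
  have dW := h.oW o
  have uW := mul_mem h.zW dW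
  have uE := (mW.1 uW).1.1
  have tE : x * (z * d) * x⁻¹ ∉ E := fun e => hd ((mul_mem_cancel_left h.zE).1
    (by rwa [← conj_mul, h.mz.1 h.xS] at e))
  have mv0 : ∀ g ∈ S ⊓ Nor E, g ∉ E → g * (z * d) * g⁻¹ = z * d * (d * d2) := fun g hg g1 => by
    rw [← conj_mul, h.mz.1 hg.1, mv g hg g1, mul_assoc, ← mul_assoc d, (mW.1 dW).2, one_mul]
  have i2 := idx2 h.leT (by rw [card_conjS]; omega)
  have i3 : ∀ a ∈ E, ∀ b ∈ E, a ∉ E ⊓ conjS x E → b ∉ E ⊓ conjS x E → a * b ∈ E ⊓ conjS x E :=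
    fun u hu v hv u1 v1 => ⟨mul_mem hu hv,
      i2 u (h.lt.le hu) v (h.lt.le hv) (fun c => u1 ⟨hu, c⟩) fun c => v1 ⟨hv, c⟩⟩
  have k2 := le_antisymm (idx2' inf_le_left i3) (half h.lt0)
  have u1 : z * d ∉ E ⊓ conjS x E := fun c => tE (h.mE.1 c.2)
  have n0 : S ⊓ Nor E ≤ Nor (E ⊓ conjS x E) := ninf inf_le_right h.nE
  have u0W := mul_mem dW (h.oW o2)
  have u0E : d * d2 ∈ E ⊓ conjS x E := by
    have := i3 _ uE _ (cmem (tT uE).2 uE) u1 fun c => u1 (cmem2 (n0 (tT uE)) c)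
    rwa [mv0 _ (tT uE) tE, ← mul_assoc, (mW.1 uW).2, one_mul] at this
  have c2 : conjS ρ (E ⊓ conjS x E) ≤ Cen1 (ρ * (x * (z * d) * x⁻¹) * ρ⁻¹) := by
    rintro _ ⟨e, he, rfl⟩; exact cc1 (c0 uW he.2) ρ
  have q1 : ρ * (x * (z * d) * x⁻¹) * ρ⁻¹ ∉ E := fun c => tE (cmem2 r1 c)
  have q2 := cd _ (h.cz ▸ (tT uE).1)
  have q3 : ∀ X ≤ E ⊓ conjS x E ⊓ conjS ρ (E ⊓ conjS x E), ¬ Nor X ≤ S := fun X hX e =>
    q1 (h.ti0 o n (e (centralizer_le_normalizer _ (cen_iff_le.2 (hX.trans (inf_le_right.trans c2))))) q2)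
  have u0D : d * d2 ∉ E ⊓ conjS x E ⊓ conjS ρ (E ⊓ conjS x E) := fun c =>
    q1 (h.ti o o2 n2.symm q2 (c1s.1 ((mul_mem_cancel_left (c1s.1 q2)).1 (c2 c.2))))
  have i4 : ∀ a ∈ E ⊓ conjS x E, ∀ b ∈ E ⊓ conjS x E, a ∉ E ⊓ conjS x E ⊓ conjS ρ (E ⊓ conjS x E) →
      b ∉ E ⊓ conjS x E ⊓ conjS ρ (E ⊓ conjS x E) → a * b ∈ E ⊓ conjS x E ⊓ conjS ρ (E ⊓ conjS x E) :=
    fun a ha b hb a1 b1 => ⟨mul_mem ha hb, mem_conjS.2 (mem_of_eq (i3 _ (cmem' r1 ha.1) _ (cmem' r1 hb.1)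
      (fun c => a1 ⟨ha, mem_conjS.2 c⟩) fun c => b1 ⟨hb, mem_conjS.2 c⟩) (by group))⟩
  have k3 := le_antisymm (idx2' inf_le_left i4)
    (half (lt_of_le_of_ne inf_le_left fun e => u0D (e.symm ▸ u0E)))
  have nE : E ≤ Nor (E ⊓ conjS x E ⊓ conjS ρ (E ⊓ conjS x E)) := ninf (h.lt.le.trans n0)
    fun g hg => mnor fun k hk => mem_conjS.2
      (mem_of_eq (cmem (n0 (h.lt.le (cmem' r1 hg))) (mem_conjS.1 hk)) (by group))
  have DE : E ⊓ conjS x E ⊓ conjS ρ (E ⊓ conjS x E) ≤ E ⊓ conjS x E := inf_le_left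
  generalize E ⊓ conjS x E ⊓ conjS ρ (E ⊓ conjS x E) = D at *
  have DS : D ≤ S := DE.trans (inf_le_left.trans h.le)
  have k4 : Nat.card D ≤ 4 := by
    by_contra c
    have c1 := h.cT.2
    have c3 : Nat.card D = 8 := by
      have := h.card ▸ card_dvd_of_le DS
      have : Nat.card D ≤ 8 := by omega
      generalize Nat.card D = m at *
      interval_cases m <;> omega
    have nT : S ⊓ Nor E ≤ Nor D := fun g hg => by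
      by_cases e : g ∈ E
      · exact nE e
      exact (mul_mem_cancel_right (centralizer_le_normalizer _ (cen_iff_le.2
        (DE.trans (inf_le_right.trans (c0 uW)))))).1 (nE (i1 g hg _ (tT uE) e tE))
    have l : conjS x D ≤ E ⊓ conjS x E := by rintro _ ⟨e, he, rfl⟩; exact cmem h.x0 (DE he)
    have := idx2' (S := D) (M := D ⊓ conjS x D) inf_le_left fun a ha b hb a1 b1 => ⟨mul_mem ha hb,
      idx2 l (by rw [card_conjS]; omega) a (DE ha) b (DE hb) (fun c => a1 ⟨ha, c⟩) fun c => b1 ⟨hb, c⟩⟩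
    refine q3 _ inf_le_left (h.big (X := D ⊓ conjS x D) (by omega) (inf_le_left.trans DS)
      (fun e => by rw [e, card_bot] at this; omega) (ninf nT fun g hg => mnor fun k hk => mem_conjS.2
        (mem_of_eq (cmem (nT (cmem' h.xN hg)) (mem_conjS.1 hk)) (by group)))
      (mnor fun k hk => ⟨mem_of_eq (cmem (nT ⟨mul_mem h.xS h.xS, h.x2⟩) (mem_conjS.1 hk.2))
        (by simp [mul_assoc]), conj_mem_conjS hk.1⟩))
  have aD : ∀ a ∈ D, ∀ b ∈ D, a ∈ Cen1 b := fun a ha b hb => c1.2 (commutatorElement_eq_one_iff_mul_comm.1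
    (congrArg Subtype.val (mem_bot.1 (H7.commutator_le_of_card (h.two.to_le DS) ⊥ (by simpa using k4)
      (commutator_mem_commutator (g₁ := ⟨a, ha⟩) (g₂ := ⟨b, hb⟩) trivial trivial)))))
  have dc : ∀ a ∈ E, ∃ v ∈ W E, a * v ∈ D := fun a ha => by
    have : ∀ a ∈ E ⊓ conjS x E, ∃ v ∈ W E, a * v ∈ D := fun a ha => (em (a ∈ D)).elim
      (fun e => ⟨1, one_mem _, by rwa [mul_one]⟩) fun e => ⟨_, u0W, i4 a ha _ u0E e u0D⟩
    by_cases e : a ∈ E ⊓ conjS x E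
    · exact this a e
    obtain ⟨v, hv, e⟩ := this _ (i3 a ha _ uE e u1)
    exact ⟨_, mul_mem uW hv, mul_assoc a _ v ▸ e⟩
  refine ⟨D, _, _, h, uE, (mW.1 uW).2, fun g hg c => h.ti0 o n hg (c1s.1 ((mul_mem_cancel_left
    (c1s.1 (h.cz ▸ hg :))).1 (c1s.1 c))), fun a ha b hb => ?_, mv0, tE, u0E, u0D, DE,
    fun X hX e => by_contra fun c => q3 X hX (h.nor X (hX.trans DS) c e), k1, k2, k3, k4⟩
  obtain ⟨v, hv, e⟩ := dc a ha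
  obtain ⟨v', hv', e'⟩ := dc b hb
  exact (mul_mem_cancel_right (c1s.1 (cW hv hb))).1 (c1s.1 ((mul_mem_cancel_right
    (c1s.1 (cW hv' (DE e).1))).1 (aD _ e' _ e)))

namespace Cs

variable (h : Cs S E D z x u u0)
include h

theorem i1 : ∀ g ∈ S ⊓ Nor E, ∀ k ∈ S ⊓ Nor E, g ∉ E → k ∉ E → g * k ∈ E := idx2 h.lt.le h.k1.le

theorem i2 : ∀ g ∈ E, ∀ k ∈ E, g ∉ E ⊓ conjS x E → k ∉ E ⊓ conjS x E → g * k ∈ E ⊓ conjS x E :=
  idx2 inf_le_left h.k2.le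

theorem i3 : ∀ g ∈ E ⊓ conjS x E, ∀ k ∈ E ⊓ conjS x E, g ∉ D → k ∉ D → g * k ∈ D :=
  idx2 h.DE h.k3.le

theorem tT : x * u * x⁻¹ ∈ S ⊓ Nor E := h.leT (conj_mem_conjS h.uE)

theorem ZT (hc : c ∈ E ⊓ conjS x E) (hg : g ∈ S ⊓ Nor E) : g ∈ Cen1 c := by
  by_cases e : g ∈ E
  · exact h.ab g e c hc.1
  obtain ⟨h1, b, hb, rfl⟩ := hc
  exact (mul_mem_cancel_right (cc1 (h.ab u h.uE b hb) x)).1 (h.ab _ (h.i1 g hg _ h.tT e h.tE) _ h1)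

theorem u1 : u ∉ E ⊓ conjS x E := fun c => h.tE (h.mE.1 c.2)

theorem u00 : u0 * u0 = 1 := by
  have : x * u * x⁻¹ * u * (x * u * x⁻¹)⁻¹ * (x * u * x⁻¹ * u * (x * u * x⁻¹)⁻¹) = 1 := by
    rw [conj_mul, h.uu]; group
  rwa [h.mv0 _ h.tT h.tE, mul_assoc, ← mul_assoc u0, c1.1 (h.ab _ h.u0E.1 _ h.uE), mul_assoc,
    ← mul_assoc, h.uu, one_mul] at this

theorem mv (hg : g ∈ S ⊓ Nor E) (g1 : g ∉ E) (ha : a ∈ E) (a1 : a ∉ E ⊓ conjS x E) :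
    g * a * g⁻¹ = a * u0 := by
  have := c1'.1 (h.ZT (h.i2 a ha u h.uE a1 h.u1) hg)
  rw [← conj_mul, h.mv0 g hg g1, ← c1.1 (h.ab _ h.u0E.1 _ h.uE), ← mul_assoc, mul_left_inj] at this
  conv_rhs => rw [← this, mul_assoc _ u0, h.u00, mul_one]

theorem inE (hg : g ∈ S) (e : g * u * g⁻¹ ∈ E) : g ∈ Nor E :=
  inv_mem_iff.1 (mnor fun k hk => h.cu _ (mul_mem (mul_mem (inv_mem hg) (h.le hk)) (inv_mem (inv_mem hg)))
    (cc2 (g := g) (mem_of_eq (h.ab k hk _ e) (by group))))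

theorem cls (hg : g ∈ S ⊓ Nor E) (g2 : g * g = 1) : g ∈ E ∨ g ∈ conjS x E := by
  refine (em _).imp_right fun e => ?_
  have e1 := h.i1 g hg _ h.tT e h.tE
  have t2 : x * u * x⁻¹ * (x * u * x⁻¹) = 1 := by rw [conj_mul, h.uu]; group
  refine (mul_mem_cancel_right (conj_mem_conjS h.uE)).1 (by_contra fun c => h.u0D ?_)
  have e2 := h.i2 _ e1 u h.uE (fun e => c e.2) h.u1
  have e3 := h.mv hg e e1 fun e => c e.2
  have e4 : g * (x * u * x⁻¹) * u * (g * (x * u * x⁻¹) * u) = u0 := by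
    have e5 := c1.1 (h.ab _ e1 _ h.uE)
    have e6 := c1.1 (h.ab _ e1 _ h.u0E.1)
    generalize x * u * x⁻¹ = t at *
    rw [mul_assoc, ← mul_assoc u, ← e5, mul_assoc _ u, h.uu, mul_one, ← mul_left_inj u0, h.u00,
      mul_assoc, ← e3, ← mul_assoc g g, g2, one_mul, mul_assoc, ← mul_assoc t, t2]
    group
  by_cases e : g * (x * u * x⁻¹) * u ∈ D
  · exact e4 ▸ mul_mem e e
  have e7 := h.i3 _ e2 _ h.u0E e h.u0D
  refine mem_of_eq (mul_mem e7 e7) ?_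
  rw [mul_assoc, ← mul_assoc u0, ← c1.1 (h.ab _ e2.1 _ h.u0E.1), mul_assoc _ u0, h.u00, mul_one, e4]

theorem inT (hg : g ∈ S) (e : g * u * g⁻¹ ∈ S ⊓ Nor E) : g ∈ Nor E ∨ x * g ∈ Nor E :=
  (h.cls e (by rw [conj_mul, h.uu]; group)).imp (h.inE hg) fun c =>
    h.inE (mul_mem h.xS hg) (mem_of_eq (h.mE.1 c) (by group))

theorem cD (hc : c ∈ D) (e : S ≤ Cen1 c) : c = 1 :=
  zpowers_eq_bot.1 (h.nD _ (zpowers_le.2 hc) fun _ hg => mzp (e hg))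

theorem zD : z ∉ D := fun c => ine h.oz (h.cD c h.cz.ge)

theorem mE0 (hc : c ∈ S) (e1 : u ∈ Cen1 c) (e2 : x ∈ Cen1 c) : c ∈ E ⊓ conjS x E :=
  have := h.cu c hc (c1s.1 e1)
  ⟨this, h.mE.2 ((c1'.1 e2).symm ▸ this)⟩

theorem zE0 : z ∈ E ⊓ conjS x E := h.mE0 (h.le h.zE) (h.cz ▸ h.le h.uE) (h.cz ▸ h.xS)

theorem ZS (hc : c ∈ S) (e : S ≤ Cen1 c) : c = 1 ∨ c = z := (em (c ∈ D)).imp (h.cD · e) fun c1 =>
  mul_right_cancel ((h.cD (h.i3 _ (h.mE0 hc (e (h.le h.uE)) (e h.xS)) _ h.zE0 c1 h.zD) fun g hg =>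
    c1s.1 (mul_mem (c1s.1 (e hg)) (c1s.1 (h.cz ▸ hg :)))).trans (ii h.oz).symm)

theorem grow {K : Subgroup G} (h1 : S ⊓ Nor E < K) (h2 : K ≤ S) : x ∈ K := by
  obtain ⟨y, hy, y1, y2, -⟩ := H7.exists_mem_normalizer_of_lt (h.two.to_le h2) h1
  exact (mul_mem_cancel_right hy).1 (h1.le ⟨mul_mem h.xS (h2 hy),
    (h.inT (h2 hy) (cmem y2 (h.lt.le h.uE))).resolve_left fun c => y1 ⟨h2 hy, c⟩⟩)

theorem pair (ha : a ∈ S) (a2 : a * a = 1) (c : 64 ≤ Nat.card ↥(S ⊓ Cen1 a)) (hg : g ∈ S) :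
    g * a * g⁻¹ = a ∨ g * a * g⁻¹ = a * z := by
  refine (em (g ∈ Cen1 a)).elim (fun e => Or.inl (c1'.1 e)) fun e => ?_
  have i := idx2 (S := S) (M := S ⊓ Cen1 a) inf_le_left (by rw [h.card]; omega)
  have k : ∀ y ∈ S ⊓ Cen1 a, y ∈ Cen1 (g * a * g⁻¹) := fun y hy => mem_of_eq
    (cc1 (TW.cm2 i (inv_mem hg) hy.1 |> (mul_mem · hy)).2 g) (by group)
  have k' : ∀ y ∈ S ⊓ Cen1 a, y ∈ Cen1 (a * (g * a * g⁻¹)) := fun y hy =>
    c1s.1 (mul_mem (c1s.1 hy.2) (c1s.1 (k y hy)))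
  have kg : g ∈ Cen1 (a * (g * a * g⁻¹)) := c1'.2 (by
    rw [← conj_mul, c1.1 (k a ⟨ha, c1.2 rfl⟩), mul_right_inj]
    exact .trans (by simp [mul_assoc]) (c1'.1 (i g hg g hg (fun c => e c.2) fun c => e c.2).2))
  refine (h.ZS (mul_mem ha (mul_mem (mul_mem hg ha) (inv_mem hg))) fun y hy =>
    (em (y ∈ S ⊓ Cen1 a)).elim (k' y) fun c =>
      (mul_mem_cancel_right kg).1 (k' _ (i y hy g hg c fun c => e c.2))).imp (fun e => ?_) fun e => ?_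
  · exact mul_left_cancel (e.trans a2.symm)
  · rw [← e, ← mul_assoc a, a2, one_mul]

theorem ext (ha : a ∈ S) (a2 : a * a = 1) (c : 64 ≤ Nat.card ↥(S ⊓ Cen1 a)) :
    a ∈ E ⊓ conjS x E ∧ x ∈ Cen1 a := by
  have p := fun {g} => h.pair (g := g) ha a2 c
  have q : a ∈ E ↔ x * a * x⁻¹ ∈ E := by
    rcases p h.xS with e | e <;> rw [e]
    exact (mul_mem_cancel_right h.zE).symm
  have aE : a ∈ E := (p (h.le h.uE)).elim (fun e => h.cu a ha (c1s.1 (c1'.2 e))) fun e =>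
    (h.cls ⟨ha, h.inE ha (mem_of_eq (mul_mem h.zE h.uE) (by
      rw [inv_eq_of_mul_eq_one_right a2, ← one_mul z, ← a2, mul_assoc a a, ← e]; group))⟩ a2).elim id
      fun c => q.2 (h.mE.1 c)
  have a0 : a ∈ E ⊓ conjS x E := ⟨aE, h.mE.2 (q.1 aE)⟩
  have := h.k1; have := h.k2; have := h.k3; have := h.k4
  exact ⟨a0, (h.grow (K := S ⊓ Cen1 a) (lt_of_le_of_ne (fun g hg => ⟨hg.1, h.ZT a0 hg⟩) fun e => by
    rw [← e] at c; omega) inf_le_left).2⟩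

end Cs

end MX
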